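import Groth.Agent.H02CA.HomTan.Lifts
import Groth.Agent.H17.PrinOmega

/-!
# Automorphisms of the trivial first-order thickening and derivations
-/

set_option autoImplicit false
set_option linter.style.haveILetI false
set_option backward.isDefEq.respectTransparency false
universe u

open CategoryTheory CategoryTheory.Limits AlgebraicGeometry TopologicalSpace Opposite TrivSqZeroExt

namespace Groth.Agent.H02CA.HomTan

open Groth.Agent.H06Lift

variable {k : Type u} [Field k] {X : Scheme.{u}} (x : X ⟶ Spec (CommRingCat.of k))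

section Endo

variable (e : Thk x k ⟶ Thk x k) (he : inc x k ≫ e = inc x k) (hep : e ≫ pr x k = pr x k)

include he in
theorem le_preimage_endo (V : (Thk x k).Opens) : V ≤ e ⁻¹ᵁ V :=
  eq_of_preimage_le (sqZero x) (by rw [← Scheme.Hom.comp_preimage, he])

include he in
theorem inc_app_endo (V : (Thk x k).Opens) (z : Γ(Thk x k, V)) :
    (inc x k).app V (e.appLE V V (le_preimage_endo x e he V) z) = (inc x k).app V z := by
  rw [Scheme.Hom.app_eq_appLE, ← CommRingCat.comp_apply, Scheme.Hom.appLE_comp_appLE]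
  simp only [he]

include hep in
theorem endo_eps (V : (Thk x k).Opens) (h : V ≤ e ⁻¹ᵁ V) : e.appLE V V h (eps x V) = eps x V := by
  show ((pr x k).appLE ⊤ V le_top ≫ e.appLE V V h) _ = (pr x k).appLE ⊤ V le_top _
  rw [Scheme.Hom.appLE_comp_appLE]
  simp only [hep]

include he hep in
/-- An endomorphism of the thickening fixing the zero section fixes the kernel of restriction to it. -/
theorem endo_fix_ker (V : (Thk x k).Opens) (a : Γ(Thk x k, V)) (ha : (inc x k).app V a = 0) :
    e.appLE V V (le_preimage_endo x e he V) a = a := by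
  obtain ⟨m, rfl⟩ := exists_kmap_eq x V a ha
  let y := rO (Thk x k) (le_q_preimage x k V) ((q x k).app (inc x k ⁻¹ᵁ V) (OmegaSh.fnSect X _ m))
  show e.appLE V V _ (eps x V * y) = eps x V * y
  rw [map_mul, endo_eps x e hep, ← sub_eq_zero, ← mul_sub]
  exact (kappa x).mul_eq_zero (inc_app_eps x V) (by rw [map_sub, inc_app_endo x e he, sub_self])

end Endo

/-- The endomorphism of an extension of the identity. -/
noncomputable def Ext.endo (b : Ext x (𝟙 X) x) : Thk x k ⟶ Thk x k :=
  pullback.lift b.hom (pr x k) (b.over_eq.trans (by rw [pullback.condition]))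

theorem Ext.endo_q (b : Ext x (𝟙 X) x) : b.endo x ≫ q x k = b.hom := pullback.lift_fst _ _ _

theorem Ext.endo_pr (b : Ext x (𝟙 X) x) : b.endo x ≫ pr x k = pr x k := pullback.lift_snd _ _ _

theorem Ext.inc_endo (b : Ext x (𝟙 X) x) : inc x k ≫ b.endo x = inc x k := by
  apply pullback.hom_ext
  · rw [Category.assoc, Ext.endo_q, b.inc_eq, inc_q]
  · rw [Category.assoc, Ext.endo_pr]

/-- The extension of an endomorphism. -/
noncomputable def Ext.ofEndo (e : Thk x k ⟶ Thk x k) (he : inc x k ≫ e = inc x k) (hep : e ≫ pr x k = pr x k) :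
    Ext x (𝟙 X) x :=
  ⟨e ≫ q x k, by rw [Category.assoc, pullback.condition, reassoc_of% hep, ← pullback.condition],
    by rw [reassoc_of% he, inc_q]⟩

theorem Ext.endo_ofEndo (e : Thk x k ⟶ Thk x k) (he : inc x k ≫ e = inc x k) (hep : e ≫ pr x k = pr x k) :
    (Ext.ofEndo x e he hep).endo x = e := by
  apply pullback.hom_ext
  · exact Ext.endo_q x _
  · rw [Ext.endo_pr, hep]

/-- Composition of extensions of the identity. -/
noncomputable def Ext.comp (b b' : Ext x (𝟙 X) x) : Ext x (𝟙 X) x :=
  Ext.ofEndo x (b.endo x ≫ b'.endo x) (by rw [← Category.assoc, b.inc_endo, b'.inc_endo])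
    (by rw [Category.assoc, b'.endo_pr, b.endo_pr])

theorem Ext.endo_comp (b b' : Ext x (𝟙 X) x) : (b.comp x b').endo x = b.endo x ≫ b'.endo x :=
  Ext.endo_ofEndo x _ _ _

variable {x}

theorem lfam_eq {b : Thk x k ⟶ X} (hb : inc x k ≫ b = 𝟙 X) (W : X.Opens) (z : Γ(X, W)) :
    lfam (sqZero x) b hb W z = b.appLE W _ (upOpen_top_le (sqZero x) hb W) z := rfl

/-- Composition of extensions of the identity adds the derivations. -/
theorem Ext.der_comp (b b' : Ext x (𝟙 X) x) :
    (b.comp x b').der x (Category.id_comp x) =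
      b.der x (Category.id_comp x) + b'.der x (Category.id_comp x) := by
  refine Subtype.ext (funext fun W => AddMonoidHom.ext fun z =>
    (kappa x).at'_injective _ _ (preT x (𝟙 X) W) ?_)
  show _ = (kappa x).at' _ _ _ ((b.der x _).1 W z + (b'.der x _).1 W z)
  rw [map_add, Ext.der_spec, Ext.der_spec, Ext.der_spec]
  let V := upOpen (sqZero x) ((𝟙 X) ⁻¹ᵁ W) ⊓ (⊤ : (Thk x k).Opens)
  have h0 : (inc x k).app V (lfam (sqZero x) b'.hom b'.inc_eq W z -
      lfam (sqZero x) (Ext.triv x (Category.id_comp x)).hom (Ext.triv x (Category.id_comp x)).inc_eq W z) = 0 := by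
    rw [← b'.der_spec x (Category.id_comp x) W z]
    exact (kappa x).at'_mem_ker _ _ _ _
  have key := endo_fix_ker x (b.endo x) b.inc_endo b.endo_pr V _ h0
  rw [map_sub] at key
  have e1 : (b.endo x).appLE V V (le_preimage_endo x _ b.inc_endo V) (lfam (sqZero x) b'.hom b'.inc_eq W z) =
      lfam (sqZero x) (b.comp x b').hom (b.comp x b').inc_eq W z := by
    rw [lfam_eq, lfam_eq, ← CommRingCat.comp_apply, Scheme.Hom.appLE_comp_appLE]
    simp only [Ext.comp, Ext.ofEndo, Category.assoc, Ext.endo_q]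
    rfl
  have e2 : (b.endo x).appLE V V (le_preimage_endo x _ b.inc_endo V) (lfam (sqZero x)
      (Ext.triv x (Category.id_comp x)).hom (Ext.triv x (Category.id_comp x)).inc_eq W z) =
      lfam (sqZero x) b.hom b.inc_eq W z := by
    rw [lfam_eq, lfam_eq, ← CommRingCat.comp_apply, Scheme.Hom.appLE_comp_appLE]
    simp only [Ext.triv, Category.comp_id, Ext.endo_q]
    rfl
  rw [e1, e2] at key
  linear_combination key

variable (x)

/-- Every endomorphism of the thickening fixing the zero section is invertible. -/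
theorem Ext.endo_bijective_aux (b : Ext x (𝟙 X) x) : IsIso (b.endo x) := by
  obtain ⟨b', hb'⟩ := (Ext.der_bijective x (Category.id_comp x)).2 (-b.der x (Category.id_comp x))
  have h0 : (Ext.triv x (Category.id_comp x) : Ext x (𝟙 X) x).der x (Category.id_comp x) = 0 := by
    refine Subtype.ext (funext fun W => AddMonoidHom.ext fun z =>
      (kappa x).at'_injective _ _ (preT x (𝟙 X) W) ?_)
    rw [Ext.der_spec, sub_self]
    exact (map_zero ((kappa x).at' _ _ (preT x (𝟙 X) W))).symm
  have ht : (Ext.triv x (Category.id_comp x) : Ext x (𝟙 X) x).endo x = 𝟙 _ := by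
    apply pullback.hom_ext
    · rw [Ext.endo_q, Category.id_comp]
      exact Category.comp_id _
    · rw [Ext.endo_pr, Category.id_comp]
  refine ⟨b'.endo x, ?_, ?_⟩
  · rw [← Ext.endo_comp, ← ht, (Ext.der_bijective x (Category.id_comp x)).1 (a₁ := b.comp x b')
      (a₂ := Ext.triv x _) (by rw [Ext.der_comp, hb', add_neg_cancel, h0])]
  · rw [← Ext.endo_comp, ← ht, (Ext.der_bijective x (Category.id_comp x)).1 (a₁ := b'.comp x b)
      (a₂ := Ext.triv x _) (by rw [Ext.der_comp, hb', neg_add_cancel, h0])]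

section Hom

variable [QuasiSeparated x] (M : X.Modules)

/-- A linear map out of the differentials as a family of derivations. -/
noncomputable def homToDersId (α : Omega.sheaf x ⟶ M) : Ders x (𝟙 X) M ⊤ :=
  ⟨fun W => (rM M (inf_le_left : (𝟙 X) ⁻¹ᵁ W ⊓ ⊤ ≤ W)).comp ((OmegaSh.dOmega x).postcomp α.val |> fun D => OmegaSh.Der.app D W),
    { res := fun W W' h z => by
        show rM M _ (OmegaSh.Der.app _ W' (rO X h z)) = rM M _ (rM M _ (OmegaSh.Der.app _ W z))
        rw [show OmegaSh.Der.app ((OmegaSh.dOmega x).postcomp α.val) W' (rO X h z) =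
          rM M h (OmegaSh.Der.app _ W z) from ((OmegaSh.dOmega x).postcomp α.val).d_map (homOfLE h).op z,
          rM_rM, rM_rM]
      mul := fun W a c => by
        show rM M _ (OmegaSh.Der.app _ W (a * c)) = _ • rM M _ (OmegaSh.Der.app _ W c) + _ • rM M _ (OmegaSh.Der.app _ W a)
        rw [show OmegaSh.Der.app ((OmegaSh.dOmega x).postcomp α.val) W (a * c) =
          a • OmegaSh.Der.app _ W c + c • OmegaSh.Der.app _ W a from ((OmegaSh.dOmega x).postcomp α.val).d_mul a c,
          map_add, rM_smul, rM_smul]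
        rfl
      base := fun Y c => by
        show rM M _ (OmegaSh.Der.app _ (x ⁻¹ᵁ Y) (x.app Y c)) = 0
        rw [show OmegaSh.Der.app ((OmegaSh.dOmega x).postcomp α.val) (x ⁻¹ᵁ Y) (x.app Y c) = 0 from
          ((OmegaSh.dOmega x).postcomp α.val).d_app (X := op Y) c, map_zero] }⟩

/-- Linear maps out of the differentials are derivations. -/
theorem exists_homDersEquiv :
    ∃ e : (Omega.sheaf x ⟶ M) ≃+ Ders x (𝟙 X) M ⊤, True := by
  have hle : ∀ W : X.Opens, W ≤ (𝟙 X) ⁻¹ᵁ W ⊓ ⊤ := fun W => le_inf le_rfl le_top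
  refine ⟨AddEquiv.ofBijective (AddMonoidHom.mk' (homToDersId x M) fun α β => Subtype.ext (funext fun W =>
    AddMonoidHom.ext fun z => map_add (rM M (inf_le_left : (𝟙 X) ⁻¹ᵁ W ⊓ ⊤ ≤ W)) _ _)) ⟨?_, ?_⟩, trivial⟩
  · intro α β h
    refine ((Groth.Agent.H17.PrinOmega.isUniversal_dOmega x) M _).unique rfl ?_
    refine PresheafOfModules.Derivation.ext (funext fun W => AddMonoidHom.ext fun z => ?_)
    have h1 := congrArg (rM M (hle W.unop)) (congr($(congrArg Subtype.val h) W.unop z))
    exact ((rM_rM _ _ _).trans (rM_self _ _)).symm.trans (h1.symm.trans ((rM_rM _ _ _).trans (rM_self _ _)))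
  · intro δ
    let D : OmegaSh.Der x M :=
      { d := fun {W} => (rM M (hle W.unop)).comp (δ.1 W.unop)
        d_mul := fun {W} (a c : Γ(X, W.unop)) => by
          show rM M _ (δ.1 W.unop (a * c)) = a • rM M (hle W.unop) (δ.1 W.unop c) + c • rM M (hle W.unop) (δ.1 W.unop a)
          rw [δ.2.mul, map_add, rM_smul, rM_smul, rO_rO, rO_rO]
          erw [rO_self, rO_self]
          rfl
        d_map := fun {W W'} f z => by
          show rM M _ (δ.1 W'.unop (rO X f.unop.le z)) = rM M f.unop.le (rM M _ (δ.1 W.unop z))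
          rw [δ.2.res, rM_rM, rM_rM]
        d_app := fun {Y} c => by
          show rM M _ (δ.1 (x ⁻¹ᵁ Y.unop) (x.app Y.unop c)) = 0
          rw [δ.2.base, map_zero] }
    obtain ⟨α, hα, -⟩ := (Groth.Agent.H17.PrinOmega.isUniversal_dOmega x) M D
    refine ⟨α, Subtype.ext (funext fun W => AddMonoidHom.ext fun z => ?_)⟩
    show rM M _ (OmegaSh.Der.app ((OmegaSh.dOmega x).postcomp α.val) W z) = δ.1 W z
    rw [hα]
    exact (rM_rM _ _ _).trans (rM_self _ _)

end Hom

end Groth.Agent.H02CA.HomTan
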