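import Groth.Agent.H02CA.HomTan.Thick
import Groth.Agent.H06Lift.Fam
import Groth.Agent.H06Lift.Affine

/-!
# Morphisms out of `X ×_k Spec k[ε]` extending a given one, and derivations
-/

set_option autoImplicit false
set_option linter.style.haveILetI false
set_option backward.isDefEq.respectTransparency false
universe u

open CategoryTheory CategoryTheory.Limits AlgebraicGeometry TopologicalSpace Opposite TrivSqZeroExt

namespace Groth.Agent.H02CA.HomTan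

open Groth.Agent.H06Lift

section Global

variable {S X T T₀ : Scheme.{u}} {f : X ⟶ S} {i : T₀ ⟶ T} [IsClosedImmersion i] (hsq : SqZero i)
  {a₀ : T₀ ⟶ X} {a : T ⟶ S} {hsqr : a₀ ≫ f = i ≫ a}

/-- A global family comes from a morphism with the given effect on sections. -/
theorem exists_hom_app {β : ∀ W : X.Opens, Γ(X, W) →+* Γ(T, upOpen hsq (a₀ ⁻¹ᵁ W) ⊓ ⊤)}
    (hβ : IsFam f hsq a₀ a hsqr ⊤ β) :
    ∃ b : T ⟶ X, b ≫ f = a ∧ i ≫ b = a₀ ∧
      ∀ (W : X.Opens) (h : upOpen hsq (a₀ ⁻¹ᵁ W) ⊓ ⊤ ≤ b ⁻¹ᵁ W) (x : Γ(X, W)), rO T h (b.app W x) = β W x := by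
  let ψ : (T.toPresheafedSpace : TopCat.{u}) ⟶ (X.toPresheafedSpace : TopCat.{u}) :=
    TopCat.ofHom ⟨fun t => a₀ ((homeo hsq).symm t), a₀.continuous.comp (homeo hsq).symm.continuous⟩
  have htop : ∀ W : X.Opens, upOpen hsq (a₀ ⁻¹ᵁ W) ≤ upOpen hsq (a₀ ⁻¹ᵁ W) ⊓ ⊤ := fun W => le_inf le_rfl le_top
  let β' : ∀ W : X.Opens, Γ(X, W) →+* Γ(T, upOpen hsq (a₀ ⁻¹ᵁ W)) := fun W => (rO T (htop W)).comp (β W)
  have hres : ∀ (W W' : X.Opens) (h : W' ≤ W) (x : Γ(X, W)),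
      β' W' (rO X h x) = rO T (upOpen_mono hsq (a₀.preimage_mono h)) (β' W x) := fun W W' h x => by
    show rO T _ (β W' _) = rO T _ (rO T _ (β W x))
    rw [hβ.res W W' h, rO_rO, rO_rO]
  have hred : ∀ (W : X.Opens) (x : Γ(X, W)),
      i.app _ (β' W x) = rO T₀ (preimage_upOpen hsq _).le (a₀.app W x) := fun W x => by
    show i.app _ (rO T _ (β W x)) = _
    rw [app_rO, hβ.red, rO_rO]
  let c : X.presheaf ⟶ ψ _* T.presheaf :=
    { app := fun W => CommRingCat.ofHom (β' W.unop)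
      naturality := fun W W' h => CommRingCat.hom_ext (RingHom.ext fun x => hres W.unop W'.unop h.unop.le x) }
  have hloc : ∀ t, IsLocalHom ((PresheafedSpace.Hom.mk ψ c :
      T.toPresheafedSpace ⟶ X.toPresheafedSpace).stalkMap t).hom := by
    intro t
    refine ⟨fun s hs => ?_⟩
    obtain ⟨W, hW, x, rfl⟩ := X.presheaf.exists_germ_eq s
    rw [PresheafedSpace.stalkMap_germ_apply] at hs
    obtain ⟨t₀, rfl⟩ := surjective_of_sqZero hsq t
    have h1 : t₀ ∈ i ⁻¹ᵁ T.basicOpen (β' W x) := (Scheme.mem_basicOpen _ _ _ _).2 hs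
    rw [Scheme.preimage_basicOpen, hred, Scheme.basicOpen_res, ← Scheme.preimage_basicOpen] at h1
    refine (Scheme.mem_basicOpen _ _ _ hW).1 ?_
    show a₀ ((homeo hsq).symm (i t₀)) ∈ X.basicOpen x
    rw [homeo_symm_apply]
    exact h1.2
  let b : T ⟶ X := ⟨⟨⟨ψ, c⟩, hloc⟩⟩
  refine ⟨b, Scheme.Hom.ext ?_ fun Y => ?_, Scheme.Hom.ext ?_ fun W => ?_, fun W h x => ?_⟩
  · ext t
    obtain ⟨t₀, rfl⟩ := surjective_of_sqZero hsq t
    show f (a₀ ((homeo hsq).symm (i t₀))) = a (i t₀)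
    rw [homeo_symm_apply, ← Scheme.Hom.comp_apply, ← Scheme.Hom.comp_apply, hsqr]
  · refine CommRingCat.hom_ext (RingHom.ext fun cY => ?_)
    show rO T _ (β' (f ⁻¹ᵁ Y) (f.app Y cY)) = a.app Y cY
    show rO T _ (rO T _ (β _ (f.app Y cY))) = _
    rw [hβ.base, rO_rO, rO_rO]
    exact rO_self _ _
  · ext t
    show a₀ ((homeo hsq).symm (i t)) = a₀ t
    rw [homeo_symm_apply]
  · refine CommRingCat.hom_ext (RingHom.ext fun x => ?_)
    show rO T₀ _ (i.app _ (β' W x)) = a₀.app W x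
    rw [hred, rO_rO]
    exact rO_self _ _
  · show rO T h (rO T (htop W) (β W x)) = β W x
    exact (rO_rO (X := T) (htop W) h (β W x)).trans (rO_self _ _)


/-- The open over which a lift is evaluated. -/
theorem upOpen_top_le {b : T ⟶ X} (hb : i ≫ b = a₀) (W : X.Opens) :
    upOpen hsq (a₀ ⁻¹ᵁ W) ⊓ ⊤ ≤ b ⁻¹ᵁ W :=
  inf_le_left.trans (upOpen_le hsq (by rw [← Scheme.Hom.comp_preimage, hb]))

theorem le_upOpen_top {b : T ⟶ X} (hb : i ≫ b = a₀) (W : X.Opens) :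
    b ⁻¹ᵁ W ≤ upOpen hsq (a₀ ⁻¹ᵁ W) ⊓ ⊤ :=
  le_inf (eq_of_preimage_le hsq (by rw [preimage_upOpen, ← Scheme.Hom.comp_preimage, hb])) le_top

/-- The family of a lift. -/
noncomputable def lfam (b : T ⟶ X) (hb : i ≫ b = a₀) (W : X.Opens) :
    Γ(X, W) →+* Γ(T, upOpen hsq (a₀ ⁻¹ᵁ W) ⊓ ⊤) :=
  (rO T (upOpen_top_le hsq hb W)).comp (b.app W).hom

theorem isFam_lfam (b : T ⟶ X) (hb₁ : b ≫ f = a) (hb : i ≫ b = a₀) :
    IsFam f hsq a₀ a hsqr ⊤ (lfam hsq b hb) where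
  res W W' h x := by
    show rO T _ (b.app W' (rO X h x)) = rO T _ (rO T _ (b.app W x))
    rw [app_rO, rO_rO, rO_rO]
  red W x := by
    show i.app _ (rO T _ (b.app W x)) = _
    rw [app_rO]
    have h := congr($(Scheme.Hom.congr_app hb W) x)
    simp only [Scheme.Hom.comp_app, CommRingCat.comp_apply] at h
    rw [show i.app (b ⁻¹ᵁ W) (b.app W x) = _ from h]
    exact rO_rO _ _ _
  base Y c := by
    show rO T _ (b.app (f ⁻¹ᵁ Y) (f.app Y c)) = _
    have h := congr($(Scheme.Hom.congr_app hb₁ Y) c)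
    simp only [Scheme.Hom.comp_app, CommRingCat.comp_apply] at h
    rw [show b.app (f ⁻¹ᵁ Y) (f.app Y c) = _ from h]
    exact rO_rO _ _ _

include hsq in
/-- Lifts with the same family are equal. -/
theorem eq_of_lfam {b b' : T ⟶ X} (hb : i ≫ b = a₀) (hb' : i ≫ b' = a₀)
    (h : ∀ W x, lfam hsq b hb W x = lfam hsq b' hb' W x) : b = b' := by
  refine Scheme.Hom.ext ?_ fun W => CommRingCat.hom_ext (RingHom.ext fun x => ?_)
  · ext t
    obtain ⟨t₀, rfl⟩ := surjective_of_sqZero hsq t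
    exact congr($(hb.trans hb'.symm) t₀)
  · have h1 := congrArg (rO T (le_upOpen_top hsq hb' W)) (h W x)
    exact ((rO_rO _ _ _).symm.trans h1).trans ((rO_rO _ _ _).trans (rO_self _ _))

end Global

variable {k : Type u} [Field k] {X : Scheme.{u}} (x : X ⟶ Spec (CommRingCat.of k))

/-- The map `m ↦ ε m`. -/
noncomputable def kmap (V : (Thk x k).Opens) :
    Γ(Coh.structureModule X, inc x k ⁻¹ᵁ V) →+ Γ(Thk x k, V) :=
  (AddMonoidHom.mulLeft (eps x V)).comp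
    (((rO (Thk x k) (le_q_preimage x k V)).comp ((q x k).app (inc x k ⁻¹ᵁ V)).hom).toAddMonoidHom.comp
      (OmegaSh.fnSect X (inc x k ⁻¹ᵁ V)))

theorem kmap_res {V V' : (Thk x k).Opens} (h : V' ≤ V) (m : Γ(Coh.structureModule X, inc x k ⁻¹ᵁ V)) :
    kmap x V' (rM (Coh.structureModule X) ((inc x k).preimage_mono h) m) = rO (Thk x k) h (kmap x V m) := by
  show eps x V' * rO _ _ ((q x k).app _ (rO X ((inc x k).preimage_mono h) (OmegaSh.fnSect X _ m))) =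
    rO _ h (eps x V * rO _ _ ((q x k).app _ (OmegaSh.fnSect X _ m)))
  rw [map_mul, rO_ps, app_rO, rO_rO, rO_rO]

theorem inc_app_kmap (V : (Thk x k).Opens) (m : Γ(Coh.structureModule X, inc x k ⁻¹ᵁ V)) :
    (inc x k).app V (kmap x V m) = 0 := by
  show (inc x k).app V (eps x V * _) = 0
  rw [map_mul, inc_app_eps, zero_mul]

theorem affine_cover (V : (Thk x k).Opens) :
    V ≤ iSup fun U : {U : X.Opens // IsAffineOpen U ∧ U ≤ inc x k ⁻¹ᵁ V} => q x k ⁻¹ᵁ U.1 := by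
  intro t ht
  have hmem : q x k t ∈ inc x k ⁻¹ᵁ V := by
    show inc x k (q x k t) ∈ V
    rwa [inc_base_q]
  obtain ⟨U, hU, htU, hUV⟩ := exists_isAffineOpen_mem_and_subset (X := X) (U := inc x k ⁻¹ᵁ V) hmem
  exact Opens.mem_iSup.2 ⟨⟨U, hU, hUV⟩, htU⟩

theorem kmap_affine {U : X.Opens} (m : Γ(Coh.structureModule X, inc x k ⁻¹ᵁ (q x k ⁻¹ᵁ U))) :
    kmap x (q x k ⁻¹ᵁ U) m =
      eps x _ * (q x k).app U (rO X (inc_preimage_q x k U).ge (OmegaSh.fnSect X _ m)) := by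
  show eps x _ * rO _ _ ((q x k).app _ (OmegaSh.fnSect X _ m)) = _
  rw [app_rO]

theorem kmap_injective (V : (Thk x k).Opens) : Function.Injective (kmap x V) := by
  refine (injective_iff_map_eq_zero _).2 fun m hm => ?_
  refine H06Lift.eq_of_cover (Coh.structureModule X)
    (fun U : {U : X.Opens // IsAffineOpen U ∧ U ≤ inc x k ⁻¹ᵁ V} => inc x k ⁻¹ᵁ (q x k ⁻¹ᵁ U.1)) _
    (fun U => (inc x k).preimage_mono (q_preimage_le x k U.2.2)) ?_ fun U => ?_
  · intro t ht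
    obtain ⟨U, hU, htU, hUV⟩ := exists_isAffineOpen_mem_and_subset (X := X) (U := inc x k ⁻¹ᵁ V) ht
    exact Opens.mem_iSup.2 ⟨⟨U, hU, hUV⟩, (inc_preimage_q x k U).ge htU⟩
  · have h1 := kmap_res x (q_preimage_le x k U.2.2) m
    rw [hm, map_zero, kmap_affine] at h1
    have h2 := eps_q_injective x U.2.1 h1
    have h3 := congrArg (rO X (inc_preimage_q x k U.1).le) h2
    rw [rO_rO, rO_self, map_zero] at h3
    rw [map_zero]
    exact h3

theorem exists_kmap_eq (V : (Thk x k).Opens) (z : Γ(Thk x k, V)) (hz : (inc x k).app V z = 0) :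
    ∃ m, kmap x V m = z := by
  have hloc : ∀ U : {U : X.Opens // IsAffineOpen U ∧ U ≤ inc x k ⁻¹ᵁ V},
      ∃ m, kmap x (q x k ⁻¹ᵁ U.1) m = rO _ (q_preimage_le x k U.2.2) z := by
    intro U
    obtain ⟨a, b, hab⟩ := exists_decomp x U.2.1 (rO _ (q_preimage_le x k U.2.2) z)
    have h0 : (inc x k).app _ (rO _ (q_preimage_le x k U.2.2) z) = 0 := by rw [app_rO, hz, map_zero]
    rw [hab, map_add, map_mul, inc_app_eps, zero_mul, add_zero, inc_app_q] at h0
    have ha : a = 0 := by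
      have h1 := congrArg (rO X (inc_preimage_q x k U.1).ge) h0
      rwa [rO_rO, rO_self, map_zero] at h1
    refine ⟨OmegaSh.strSect X _ (rO X (inc_preimage_q x k U.1).le b), ?_⟩
    rw [hab, ha, map_zero, zero_add, kmap_affine]
    show eps x _ * (q x k).app U.1 (rO X _ (rO X _ b)) = _
    rw [rO_rO, rO_self]
  choose m hm using hloc
  let O : TopCat.Sheaf Ab.{u} X := ⟨(Coh.structureModule X).presheaf, (Coh.structureModule X).isSheaf⟩
  have hcov : inc x k ⁻¹ᵁ V ≤ iSup fun U : {U : X.Opens // IsAffineOpen U ∧ U ≤ inc x k ⁻¹ᵁ V} =>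
      inc x k ⁻¹ᵁ (q x k ⁻¹ᵁ U.1) := fun t ht => by
    obtain ⟨U, hU⟩ := Opens.mem_iSup.1 (affine_cover x V ht)
    exact Opens.mem_iSup.2 ⟨U, hU⟩
  obtain ⟨s, hs, -⟩ := TopCat.Sheaf.existsUnique_gluing' O
    (fun U : {U : X.Opens // IsAffineOpen U ∧ U ≤ inc x k ⁻¹ᵁ V} => inc x k ⁻¹ᵁ (q x k ⁻¹ᵁ U.1))
    (inc x k ⁻¹ᵁ V) (fun U => homOfLE ((inc x k).preimage_mono (q_preimage_le x k U.2.2))) hcov m
    (fun U U' => kmap_injective x (q x k ⁻¹ᵁ U.1 ⊓ q x k ⁻¹ᵁ U'.1) (by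
      refine (kmap_res x inf_le_left (m U)).trans (Eq.trans ?_ (kmap_res x inf_le_right (m U')).symm)
      rw [hm, hm, rO_rO, rO_rO]))
  refine ⟨s, eq_of_coverO (fun U : {U : X.Opens // IsAffineOpen U ∧ U ≤ inc x k ⁻¹ᵁ V} => q x k ⁻¹ᵁ U.1) V
    (fun U => q_preimage_le x k U.2.2) (affine_cover x V) fun U => ?_⟩
  rw [← kmap_res x (q_preimage_le x k U.2.2) s, show rM (Coh.structureModule X) _ s = m U from hs U, hm]

theorem kmap_mul_kmap (V : (Thk x k).Opens) (m m' : Γ(Coh.structureModule X, inc x k ⁻¹ᵁ V)) :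
    kmap x V m * kmap x V m' = 0 := by
  have h : eps x V * eps x V = 0 := by rw [eps, ← map_mul, inr_mul_inr, map_zero]
  show eps x V * _ * (eps x V * _) = 0
  rw [mul_mul_mul_comm, h, zero_mul]

/-- The kernel of restriction to the zero section. -/
noncomputable def kappa : Kappa (inc x k) (Coh.structureModule X) where
  map := kmap x
  injective := kmap_injective x
  mem_ker := inc_app_kmap x
  exists_eq := exists_kmap_eq x
  smul V z m := by
    let z' := rO (Thk x k) (le_q_preimage x k V) ((q x k).app _ ((inc x k).app V z))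
    have h0 : (inc x k).app V (z - z') = 0 := by
      rw [map_sub, app_rO, inc_app_q, rO_rO, rO_self, sub_self]
    obtain ⟨m', hm'⟩ := exists_kmap_eq x V _ h0
    have h1 : z * kmap x V m = z' * kmap x V m := by
      rw [← sub_eq_zero, ← sub_mul, ← hm', kmap_mul_kmap]
    rw [h1]
    show eps x V * rO _ _ ((q x k).app _ ((inc x k).app V z * OmegaSh.fnSect X _ m)) = _
    rw [map_mul, map_mul]
    show _ = z' * (eps x V * rO _ _ ((q x k).app _ (OmegaSh.fnSect X _ m)))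
    ring
  res V V' h m := kmap_res x h m

theorem sqZero : SqZero (inc x k) := fun U a b ha hb => (kappa x).mul_eq_zero ha hb

variable {Y : Scheme.{u}} {yY : Y ⟶ Spec (CommRingCat.of k)} {f : X ⟶ Y} (hf : f ≫ yY = x)

/-- The morphisms `X ×_k Spec k[ε] ⟶ Y` over `k` extending `f`. -/
@[ext]
structure Ext (f : X ⟶ Y) (yY : Y ⟶ Spec (CommRingCat.of k)) where
  hom : Thk x k ⟶ Y
  over_eq : hom ≫ yY = q x k ≫ x
  inc_eq : inc x k ≫ hom = f

/-- The trivial extension. -/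
noncomputable def Ext.triv : Ext x f yY :=
  ⟨q x k ≫ f, by rw [Category.assoc, hf], by rw [inc_q_assoc]⟩

/-- The trace on `X` of the open over which extensions are evaluated. -/
theorem preT (f : X ⟶ Y) (W : Y.Opens) :
    inc x k ⁻¹ᵁ (upOpen (sqZero x) (f ⁻¹ᵁ W) ⊓ ⊤) = f ⁻¹ᵁ W ⊓ ⊤ :=
  pre_inf (sqZero x) f W (V := ⊤) (P := ⊤) rfl

include hf in
theorem sqr : f ≫ yY = inc x k ≫ q x k ≫ x := by rw [hf, inc_q_assoc]

theorem exists_der (b : Ext x f yY) : ∃ δ : Ders yY f (Coh.structureModule X) ⊤,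
    ∀ (W : Y.Opens) (z : Γ(Y, W)), (kappa x).at' _ _ (preT x f W) (δ.1 W z) =
      lfam (sqZero x) b.hom b.inc_eq W z - lfam (sqZero x) (Ext.triv x hf).hom (Ext.triv x hf).inc_eq W z :=
  exists_diff (sqZero x) (kappa x) (hsqr := sqr x hf) (V := ⊤) rfl
    (isFam_lfam (sqZero x) _ (Ext.triv x hf).over_eq (Ext.triv x hf).inc_eq)
    (isFam_lfam (sqZero x) _ b.over_eq b.inc_eq)

/-- The derivation of an extension. -/
noncomputable def Ext.der (b : Ext x f yY) : Ders yY f (Coh.structureModule X) ⊤ := (exists_der x hf b).choose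

theorem Ext.der_spec (b : Ext x f yY) (W : Y.Opens) (z : Γ(Y, W)) :
    (kappa x).at' _ _ (preT x f W) ((b.der x hf).1 W z) =
      lfam (sqZero x) b.hom b.inc_eq W z - lfam (sqZero x) (Ext.triv x hf).hom (Ext.triv x hf).inc_eq W z :=
  (exists_der x hf b).choose_spec W z

theorem Ext.der_bijective : Function.Bijective (Ext.der x hf : Ext x f yY → _) := by
  refine ⟨fun b b' h => Ext.ext ?_, fun δ => ?_⟩
  · refine eq_of_lfam (sqZero x) b.inc_eq b'.inc_eq fun W z => ?_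
    have h1 := b.der_spec x hf W z
    rw [h, b'.der_spec x hf W z] at h1
    exact (sub_left_inj.1 h1).symm
  · obtain ⟨γ, hγ, hγ'⟩ := exists_add (sqZero x) (kappa x) (P := ⊤) (V := ⊤) rfl
      (isFam_lfam (hsqr := sqr x hf) (sqZero x) _ (Ext.triv x hf).over_eq (Ext.triv x hf).inc_eq) δ
    obtain ⟨b, hb₁, hb₂, hb⟩ := exists_hom_app (sqZero x) hγ
    refine ⟨⟨b, hb₁, hb₂⟩, Subtype.ext (funext fun W => AddMonoidHom.ext fun z =>
      (kappa x).at'_injective _ _ (preT x f W) ?_)⟩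
    rw [Ext.der_spec]
    show rO _ _ (b.app W z) - _ = _
    rw [hb, hγ']
    exact add_sub_cancel_left _ _

variable {N : Type u} [AddCommGroup N] [Module k N] [Module kᵐᵒᵖ N] [IsCentralScalar k N]

theorem mapT_zero : mapT x (0 : N →ₗ[k] k) = q x k ≫ inc x N := by
  apply pullback.hom_ext
  · rw [mapT_q, Category.assoc, inc_q, Category.comp_id]
  · rw [mapT_pr, Category.assoc, inc_pr, ← Category.assoc, pullback.condition, Category.assoc, ← Spec.map_comp]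
    congr 1
    refine congrArg Spec.map (CommRingCat.hom_ext (RingHom.ext fun r => ?_))
    show TrivSqZeroExt.map (0 : N →ₗ[k] k) r = algebraMap k (TrivSqZeroExt k k) r.fst
    exact TrivSqZeroExt.ext (by simp [algebraMap_eq_inl]) (by simp [algebraMap_eq_inl])

/-- The extension induced by a morphism on a larger thickening. -/
noncomputable def Ext.pull (b : Thk x N ⟶ Y) (h₁ : b ≫ yY = q x N ≫ x) (h₂ : inc x N ≫ b = f) (ψ : N →ₗ[k] k) :
    Ext x f yY :=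
  ⟨mapT x ψ ≫ b, by rw [Category.assoc, h₁, mapT_q_assoc], by rw [inc_mapT_assoc, h₂]⟩

theorem Ext.der_pull_affine (b : Thk x N ⟶ Y) (h₁ : b ≫ yY = q x N ≫ x) (h₂ : inc x N ≫ b = f)
    (c₁ c₂ : k) (ψ₁ ψ₂ : N →ₗ[k] k) :
    (Ext.pull x b h₁ h₂ (c₁ • ψ₁ + c₂ • ψ₂)).der x hf =
      dSmul (cs x ⊤ c₁) ((Ext.pull x b h₁ h₂ ψ₁).der x hf) +
        dSmul (cs x ⊤ c₂) ((Ext.pull x b h₁ h₂ ψ₂).der x hf) := by
  refine Subtype.ext (funext fun W => AddMonoidHom.ext fun z =>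
    (kappa x).at'_injective _ _ (preT x f W) ?_)
  show _ = (kappa x).at' _ _ _ ((dSmul (cs x ⊤ c₁) ((Ext.pull x b h₁ h₂ ψ₁).der x hf)).1 W z +
    (dSmul (cs x ⊤ c₂) ((Ext.pull x b h₁ h₂ ψ₂).der x hf)).1 W z)
  have hsm : ∀ (c : k) (m : Γ(Coh.structureModule X, f ⁻¹ᵁ W ⊓ ⊤)),
      (kappa x).at' _ _ (preT x f W) (sc (f ⁻¹ᵁ W ⊓ ⊤) (cs x ⊤ c) • m) =
        ps x k _ (inl c) * (kappa x).at' _ _ (preT x f W) m := by
    intro c m
    refine (kappa x).at'_smul _ _ _ _ _ ?_ m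
    rw [inc_app_ps, fst_inl, sc, rO_rO, rO_cs]
  rw [map_add, dSmul_apply, dSmul_apply, hsm, hsm, Ext.der_spec, Ext.der_spec, Ext.der_spec]
  let V' := upOpen (sqZero x) (f ⁻¹ᵁ W) ⊓ (⊤ : (Thk x k).Opens)
  have he : ∀ ψ : N →ₗ[k] k, V' ≤ mapT x ψ ⁻¹ᵁ (b ⁻¹ᵁ W) := fun ψ =>
    upOpen_top_le (sqZero x) (Ext.pull x b h₁ h₂ ψ).inc_eq W
  have hval : ∀ ψ : N →ₗ[k] k,
      lfam (sqZero x) (Ext.pull x b h₁ h₂ ψ).hom (Ext.pull x b h₁ h₂ ψ).inc_eq W z =
        (mapT x ψ).appLE (b ⁻¹ᵁ W) V' (he ψ) (b.app W z) := fun ψ => by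
    show rO _ _ ((mapT x ψ ≫ b).app W z) = _
    rw [Scheme.Hom.comp_app]
    rfl
  have h0 : lfam (sqZero x) (Ext.triv x hf).hom (Ext.triv x hf).inc_eq W z =
      lfam (sqZero x) (Ext.pull x b h₁ h₂ 0).hom (Ext.pull x b h₁ h₂ 0).inc_eq W z := by
    have e : (Ext.triv x hf : Ext x f yY) = Ext.pull x b h₁ h₂ 0 := Ext.ext (by
      show q x k ≫ f = mapT x 0 ≫ b
      rw [mapT_zero, Category.assoc, h₂])
    rw [e]
  rw [h0, hval, hval, hval, hval, mapT_affine x c₁ c₂ ψ₁ ψ₂ (he _) (he _) (he _) (he _)]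
  simp only [inl_sub, inl_one, map_sub, map_one]
  ring

end Groth.Agent.H02CA.HomTan
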