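import Groth.Agent.H02CA.HomTan.Lifts
import Groth.Agent.H06Lift.SheafHom
import Groth.Agent.H17.PrinOmega
import Groth.Agent.H10Coh.Pn.Results

/-!
# Derivations as global sections of the dual of the pulled-back differentials, linearly
-/

set_option autoImplicit false
set_option linter.style.haveILetI false
set_option backward.isDefEq.respectTransparency false
universe u

open CategoryTheory CategoryTheory.Limits AlgebraicGeometry TopologicalSpace Opposite

namespace Groth.Agent.H02CA.HomTan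

open Groth.Agent.H06Lift Groth.Agent.H29Ref Groth.Agent.H10Coh

variable {S X T₀ : Scheme.{u}} {f : X ⟶ S} (a₀ : T₀ ⟶ X)

/-- Derivations as global sections of `Hom(a₀^*Ω, M)`, compatibly with global functions. -/
theorem exists_homH0Equiv [QuasiSeparated f] (M : T₀.Modules)
    [DCoh.HasSheafHom ((Scheme.Modules.pullback a₀).obj (Omega.sheaf f))] :
    ∃ e : Coh.HH T₀ ((DCoh.sheafHom ((Scheme.Modules.pullback a₀).obj (Omega.sheaf f))).obj M) 0 ≃+
        Ders f a₀ M ⊤,
      ∀ (r : Γ(T₀, ⊤)) z, e ((show Coh.Γtop T₀ from r) • z) = dSmul r (e z) := by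
  let E := (Scheme.Modules.pullback a₀).obj (Omega.sheaf f)
  let d := OmegaSh.dOmega f
  have hd : OmegaSh.IsUniversal d := H17.PrinOmega.isUniversal_dOmega f
  let i := SheafHom.homShIso E M
  let e₁ : Γ((DCoh.sheafHom E).obj M, ⊤) ≃+ Γ(RefHull.homSh E M, ⊤) :=
    AddEquiv.ofBijective (i.hom.app ⊤).hom (ConcreteCategory.bijective_of_isIso (i.hom.app ⊤))
  let e₂ : Γ(RefHull.homSh E M, ⊤) ≃+ Ders f a₀ M ⊤ :=
    AddEquiv.ofBijective (homToDers a₀ d M ⊤)
      ⟨homToDers_injective a₀ d M hd ⊤, homToDers_surjective a₀ d M hd ⊤⟩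
  refine ⟨(HH0Equiv _).trans (e₁.trans e₂), fun r z => Subtype.ext (funext fun W => AddMonoidHom.ext fun x => ?_)⟩
  show homVal a₀ d M (i.hom.app ⊤ (HH0Equiv _ ((show Coh.Γtop T₀ from r) • z))) W x = _
  rw [HH0Equiv_smul, Scheme.Modules.Hom.app_smul, dSmul_apply]
  show toLinₗ E M _ (rM (RefHull.homSh E M) inf_le_right (r • _)) _ = _
  rw [rM_smul, map_smul, LinearMap.smul_apply]
  rfl

end Groth.Agent.H02CA.HomTan
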