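import Groth.Agent.H02CA.HomTan.Lifts
import Groth.Agent.H19Grp.TangentDer
import Mathlib.RingTheory.DualNumber
import Mathlib.LinearAlgebra.Dual.Lemmas
import Mathlib.RingTheory.Derivation.Basic

/-!
# The tangent space of a scheme of morphisms at a rational point
-/

set_option autoImplicit false
set_option linter.style.haveILetI false
set_option backward.isDefEq.respectTransparency false
universe u

open CategoryTheory CategoryTheory.Limits AlgebraicGeometry TopologicalSpace Opposite TrivSqZeroExt

namespace Groth.Agent.H02CA.HomTan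

section Alg

variable {k : Type u} [Field k] {R : Type u} [CommRing R] [IsLocalRing R] [Algebra k R] [Algebra R k]
  [IsScalarTower k R k]

/-- Derivations into a rational residue field have the dimension of the cotangent space, finite or not. -/
theorem finrank_derivation_eq (hR : Function.Surjective (algebraMap R k)) :
    Module.finrank k (Derivation k R k) =
      Module.finrank (IsLocalRing.ResidueField R) (IsLocalRing.CotangentSpace R) := by
  let m := IsLocalRing.maximalIdeal R
  let ρ : R → k := algebraMap R k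
  have hker : RingHom.ker (algebraMap R k) = m :=
    IsLocalRing.eq_maximalIdeal (RingHom.ker_isMaximal_of_surjective (algebraMap R k) hR)
  have hm : ∀ a : R, a ∈ m ↔ ρ a = 0 := fun a => by rw [← hker]; exact RingHom.mem_ker
  have hρk : ∀ c : k, ρ (algebraMap k R c) = c := fun c => by
    rw [show ρ (algebraMap k R c) = algebraMap k k c from (IsScalarTower.algebraMap_apply k R k c).symm]
    rfl
  have hsm : ∀ (a : R) (c : k), a • c = ρ a * c := fun a c => Algebra.smul_def a c
  have hc : ∀ a : R, a - algebraMap k R (ρ a) ∈ m := fun a => (hm _).2 (by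
    show algebraMap R k _ = 0
    rw [map_sub]
    exact sub_eq_zero.2 (hρk (ρ a)).symm)
  let sec := Function.surjInv m.toCotangent_surjective
  have hsec : ∀ z, m.toCotangent (sec z) = z := Function.surjInv_eq m.toCotangent_surjective
  have hDsq : ∀ (D : Derivation k R k), ∀ z ∈ m ^ 2, D z = 0 := fun D z hz => by
    rw [pow_two] at hz
    refine Submodule.mul_induction_on hz (fun a ha b hb => ?_) fun a b ha hb => by rw [map_add, ha, hb, add_zero]
    rw [Derivation.leibniz, hsm, hsm, (hm a).1 ha, (hm b).1 hb, zero_mul, zero_mul, add_zero]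
  have hD : ∀ (D : Derivation k R k) (a b : m), m.toCotangent a = m.toCotangent b → D a = D b := fun D a b h => by
    rw [← sub_eq_zero, ← map_sub]
    exact hDsq D _ (m.toCotangent_eq.1 h)
  let toDual : Derivation k R k →ₗ[k] Module.Dual k (IsLocalRing.CotangentSpace R) :=
    { toFun := fun D =>
        { toFun := fun z => D (sec z)
          map_add' := fun z z' => by
            rw [hD D (sec (z + z')) (sec z + sec z') (by rw [map_add, hsec, hsec, hsec]),
              Submodule.coe_add, map_add]
          map_smul' := fun c z => by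
            rw [RingHom.id_apply, hD D (sec (c • z)) (algebraMap k R c • sec z) (by
              rw [map_smul]
              refine (hsec _).trans ?_
              rw [hsec, algebraMap_smul]), Submodule.coe_smul, smul_eq_mul, Derivation.leibniz,
              Derivation.map_algebraMap, smul_zero, add_zero, hsm, hρk]
            rfl }
      map_add' := fun D D' => by ext z; rfl
      map_smul' := fun c D => by ext z; rfl }
  have hbij : Function.Bijective toDual := by
    refine ⟨(injective_iff_map_eq_zero _).2 fun D h0 => Derivation.ext fun a => ?_, fun ℓ => ?_⟩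
    · have h1 : D (sec (m.toCotangent ⟨_, hc a⟩)) = 0 := LinearMap.congr_fun h0 _
      rw [hD D (sec _) ⟨_, hc a⟩ (hsec _), map_sub, Derivation.map_algebraMap, sub_zero] at h1
      exact h1
    · let cls : R → IsLocalRing.CotangentSpace R := fun a => m.toCotangent ⟨_, hc a⟩
      have hadd : ∀ a b, cls (a + b) = cls a + cls b := fun a b => by
        show _ = m.toCotangent _ + m.toCotangent _
        rw [← map_add]
        refine congrArg m.toCotangent (Subtype.ext ?_)
        show a + b - algebraMap k R (ρ (a + b)) = _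
        rw [show ρ (a + b) = ρ a + ρ b from map_add (algebraMap R k) a b, map_add, Submodule.coe_add]
        ring
      have hsmul : ∀ (c : k) a, cls (c • a) = c • cls a := fun c a => by
        show _ = c • m.toCotangent _
        refine Eq.trans (congrArg m.toCotangent (Subtype.ext ?_))
          ((map_smul m.toCotangent (algebraMap k R c) _).trans (algebraMap_smul (M := m.Cotangent) R c _))
        show c • a - algebraMap k R (ρ (c • a)) = algebraMap k R c * (a - algebraMap k R (ρ a))
        rw [Algebra.smul_def, show ρ (algebraMap k R c * a) = ρ (algebraMap k R c) * ρ a from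
          map_mul (algebraMap R k) _ _, hρk, map_mul]
        ring
      have hmul : ∀ a b, cls (a * b) = ρ a • cls b + ρ b • cls a := fun a b => by
        show _ = ρ a • m.toCotangent _ + ρ b • m.toCotangent _
        rw [← algebraMap_smul R (ρ a), ← algebraMap_smul R (ρ b), ← map_smul, ← map_smul, ← map_add]
        rw [Ideal.toCotangent_eq, pow_two, Submodule.coe_add, SetLike.val_smul, SetLike.val_smul, smul_eq_mul,
          smul_eq_mul]
        have : (a * b - algebraMap k R (ρ (a * b))) - (algebraMap k R (ρ a) * (b - algebraMap k R (ρ b)) +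
            algebraMap k R (ρ b) * (a - algebraMap k R (ρ a))) =
              (a - algebraMap k R (ρ a)) * (b - algebraMap k R (ρ b)) := by
          rw [show ρ (a * b) = ρ a * ρ b from map_mul (algebraMap R k) _ _, map_mul]
          ring
        rw [this]
        exact Ideal.mul_mem_mul (hc a) (hc b)
      let L : R →ₗ[k] k :=
        { toFun := fun a => ℓ (cls a)
          map_add' := fun a b => by rw [hadd, map_add]
          map_smul' := fun c a => by rw [hsmul, map_smul]; rfl }
      refine ⟨Derivation.mk' L fun a b => ?_, LinearMap.ext fun z => ?_⟩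
      · show ℓ (cls (a * b)) = a • ℓ (cls b) + b • ℓ (cls a)
        rw [hmul, map_add, map_smul, map_smul, hsm, hsm]
        rfl
      · show ℓ (cls (sec z : R)) = ℓ z
        congr 1
        refine Eq.trans (congrArg m.toCotangent (Subtype.ext ?_)) (hsec z)
        show (sec z : R) - algebraMap k R (ρ (sec z : R)) = sec z
        rw [(hm _).1 (sec z).2, map_zero, sub_zero]
  haveI : IsScalarTower k (IsLocalRing.ResidueField R) (IsLocalRing.CotangentSpace R) :=
    IsScalarTower.of_algebraMap_smul fun c z => by
      rw [IsScalarTower.algebraMap_apply k R (IsLocalRing.ResidueField R)]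
      exact (algebraMap_smul (IsLocalRing.ResidueField R) _ z).trans (algebraMap_smul (M := m.Cotangent) R c z)
  have hsurj : Function.Surjective (algebraMap k (IsLocalRing.ResidueField R)) := fun z => by
    obtain ⟨a, rfl⟩ := IsLocalRing.residue_surjective z
    exact ⟨ρ a, by
      rw [IsScalarTower.algebraMap_apply k R (IsLocalRing.ResidueField R)]
      exact ((Ideal.Quotient.eq (I := m)).2 (hc a)).symm⟩
  have hone : Module.finrank k (IsLocalRing.ResidueField R) = 1 := by
    rw [← (LinearEquiv.ofBijective (Algebra.linearMap k (IsLocalRing.ResidueField R))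
      ⟨(algebraMap k (IsLocalRing.ResidueField R)).injective, hsurj⟩).finrank_eq, Module.finrank_self]
  rw [(LinearEquiv.ofBijective toDual hbij).finrank_eq,
    ← one_mul (Module.finrank (IsLocalRing.ResidueField R) _), ← hone,
    Module.finrank_mul_finrank k (IsLocalRing.ResidueField R) (IsLocalRing.CotangentSpace R)]
  by_cases hfin : Module.Finite k (IsLocalRing.CotangentSpace R)
  · exact Subspace.dual_finrank_eq
  · rw [Module.finrank_of_not_finite hfin, Module.finrank_of_not_finite fun h => hfin ((Module.finite_dual_iff k).1 h)]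

end Alg

open Groth.Agent.H06Lift

variable {k : Type u} [Field k] {X Y : Scheme.{u}} {x : X ⟶ Spec (CommRingCat.of k)}
  {yY : Y ⟶ Spec (CommRingCat.of k)} {M : Over (Spec (CommRingCat.of k))}

/-- The map on products with `X` of a morphism to `M`. -/
noncomputable abbrev tl (x : X ⟶ Spec (CommRingCat.of k)) {Tb : Over (Spec (CommRingCat.of k))} (a : Tb ⟶ M) :
    pullback x Tb.hom ⟶ pullback x M.hom :=
  pullback.lift (pullback.fst _ _) (pullback.snd _ _ ≫ a.left) (by rw [Category.assoc, Over.w a, pullback.condition])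

theorem tl_inc {N : Type u} [AddCommGroup N] [Module k N] [Module kᵐᵒᵖ N] [IsCentralScalar k N]
    (a : Over.mk (sp (k := k) N) ⟶ M) (a' : Over.mk (𝟙 (Spec (CommRingCat.of k))) ⟶ M)
    (h : a'.left = sp0 N ≫ a.left) :
    tl x a' = (pullback.fst x (Over.mk (𝟙 (Spec (CommRingCat.of k)))).hom ≫ inc x N) ≫ tl x a := by
  have e : pullback.snd x (Over.mk (𝟙 (Spec (CommRingCat.of k)))).hom =
      pullback.fst x (Over.mk (𝟙 (Spec (CommRingCat.of k)))).hom ≫ x :=
    Eq.trans (Category.comp_id (pullback.snd x (Over.mk (𝟙 (Spec (CommRingCat.of k)))).hom)).symm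
      (pullback.condition (f := x) (g := (Over.mk (𝟙 (Spec (CommRingCat.of k)))).hom)).symm
  apply pullback.hom_ext
  · simp only [Category.assoc, pullback.lift_fst]
    refine (Category.comp_id _).symm.trans ?_
    exact congrArg (CategoryStruct.comp (pullback.fst x _)) (inc_q x N).symm
  · simp only [Category.assoc, pullback.lift_snd]
    rw [h, e, Category.assoc]
    exact congrArg (CategoryStruct.comp (pullback.fst x _)) (inc_pr_assoc x N a.left).symm

section Rep

variable (υ : pullback x M.hom ⟶ Y) (hυ : υ ≫ yY = pullback.fst x M.hom ≫ x)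
  (hM : ∀ (Tb : Over (Spec (CommRingCat.of k))) (φ : pullback x Tb.hom ⟶ Y),
      φ ≫ yY = pullback.fst x Tb.hom ≫ x → ∃! a : Tb ⟶ M, tl x a ≫ υ = φ)
  (f : X ⟶ Y) (hf : f ≫ yY = x) (af : Over.mk (𝟙 (Spec (CommRingCat.of k))) ⟶ M)
  (haf : tl x af ≫ υ = pullback.fst x (Over.mk (𝟙 (Spec (CommRingCat.of k)))).hom ≫ f)
  {R : Type u} [CommRing R] [Algebra k R] [Algebra R k] [IsScalarTower k R k]
  (u : Spec (CommRingCat.of R) ⟶ M.left)
  (hu : u ≫ M.hom = Spec.map (CommRingCat.ofHom (algebraMap k R)))
  (haR : Spec.map (CommRingCat.ofHom (algebraMap R k)) ≫ u = af.left)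

variable {N : Type u} [AddCommGroup N] [Module k N] [Module kᵐᵒᵖ N] [IsCentralScalar k N]

include hu in
theorem gN_w (φ : R →ₐ[k] TrivSqZeroExt k N) :
    (Spec.map (CommRingCat.ofHom φ.toRingHom) ≫ u) ≫ M.hom = sp N := by
  rw [Category.assoc, hu, ← Spec.map_comp]
  exact congrArg Spec.map (CommRingCat.hom_ext (RingHom.ext fun c => φ.commutes c))

/-- The point of `M` with values in `k ⊕ N` of an algebra homomorphism. -/
noncomputable def gN (φ : R →ₐ[k] TrivSqZeroExt k N) : Over.mk (sp (k := k) N) ⟶ M :=
  Over.homMk (Spec.map (CommRingCat.ofHom φ.toRingHom) ≫ u) (gN_w u hu φ)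

/-- The morphism `X ×_k Spec (k ⊕ N) ⟶ Y` of an algebra homomorphism. -/
noncomputable def evN (φ : R →ₐ[k] TrivSqZeroExt k N) : Thk x N ⟶ Y := tl x (gN u hu φ) ≫ υ

include hυ in
theorem over_tl {Tb : Over (Spec (CommRingCat.of k))} (a : Tb ⟶ M) :
    (tl x a ≫ υ) ≫ yY = pullback.fst x Tb.hom ≫ x := by
  rw [Category.assoc, hυ, pullback.lift_fst_assoc]

include hυ in
theorem evN_over (φ : R →ₐ[k] TrivSqZeroExt k N) : evN υ u hu φ ≫ yY = q x N ≫ x :=
  over_tl υ hυ (gN u hu φ)

include haf in
theorem inc_tl (a : Over.mk (sp (k := k) N) ⟶ M) (ha : sp0 N ≫ a.left = af.left) :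
    inc x N ≫ tl x a ≫ υ = f := by
  have e : inc x N ≫ tl x a = pullback.lift (𝟙 X) x (Category.id_comp x |>.trans (Category.comp_id x).symm) ≫
      tl x af := by
    apply pullback.hom_ext
    · simp only [Category.assoc, pullback.lift_fst]
      exact (inc_q x N).trans (pullback.lift_fst _ _ _).symm
    · simp only [Category.assoc, pullback.lift_snd]
      erw [inc_pr_assoc, pullback.lift_snd_assoc]
      rw [ha]
  rw [← Category.assoc, e, Category.assoc, haf]
  exact pullback.lift_fst_assoc _ _ _ _ |>.trans (Category.id_comp f)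

include haR in
theorem sp0_gN (φ : R →ₐ[k] TrivSqZeroExt k N) (hφ : ∀ r, (φ r).fst = algebraMap R k r) :
    sp0 N ≫ (gN u hu φ).left = af.left := by
  show sp0 N ≫ Spec.map (CommRingCat.ofHom φ.toRingHom) ≫ u = _
  rw [← Spec.map_comp_assoc, ← haR]
  congr 2
  exact CommRingCat.hom_ext (RingHom.ext hφ)

include haf haR in
theorem inc_evN (φ : R →ₐ[k] TrivSqZeroExt k N) (hφ : ∀ r, (φ r).fst = algebraMap R k r) :
    inc x N ≫ evN υ u hu φ = f :=
  inc_tl υ f af haf (gN u hu φ) (sp0_gN af u hu haR φ hφ)

theorem mapT_evN (φ : R →ₐ[k] TrivSqZeroExt k N) (p : N →ₗ[k] k) :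
    mapT x p ≫ evN υ u hu φ = evN υ u hu ((TrivSqZeroExt.map p).comp φ) := by
  show mapT x p ≫ tl x (gN u hu φ) ≫ υ = tl x (gN u hu _) ≫ υ
  rw [← Category.assoc]
  congr 1
  apply pullback.hom_ext
  · simp only [Category.assoc, pullback.lift_fst]
    exact mapT_q x p
  · simp only [Category.assoc, pullback.lift_snd]
    show mapT x p ≫ pr x N ≫ Spec.map (CommRingCat.ofHom φ.toRingHom) ≫ u =
      pr x k ≫ Spec.map (CommRingCat.ofHom ((TrivSqZeroExt.map p).comp φ).toRingHom) ≫ u
    rw [mapT_pr_assoc, ← Spec.map_comp_assoc]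
    rfl

/-- The algebra homomorphism of a derivation into a module. -/
noncomputable def derHom (D : R → N) (hadd : ∀ a b, D (a + b) = D a + D b)
    (hmul : ∀ a b, D (a * b) = algebraMap R k a • D b + algebraMap R k b • D a)
    (halg : ∀ c : k, D (algebraMap k R c) = 0) : R →ₐ[k] TrivSqZeroExt k N where
  toFun r := inl (algebraMap R k r) + inr (D r)
  map_one' := by
    have h := halg 1
    rw [map_one] at h
    rw [h, map_one, inr_zero, add_zero, inl_one]
  map_mul' a b := by
    rw [hmul, map_mul]
    refine TrivSqZeroExt.ext ?_ ?_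
    · simp
    · simp [op_smul_eq_smul, add_comm]
  map_zero' := by
    have h := halg 0
    rw [map_zero] at h
    rw [h, map_zero, inr_zero, add_zero, inl_zero]
  map_add' a b := by
    rw [hadd, map_add, inl_add, inr_add]
    abel
  commutes' c := by
    rw [halg, ← IsScalarTower.algebraMap_apply k R k, inr_zero, add_zero, algebraMap_eq_inl]
    rfl

theorem fst_derHom (D : R → N) (h₁) (h₂) (h₃) (r : R) :
    (derHom (k := k) D h₁ h₂ h₃ r).fst = algebraMap R k r := by
  show (inl (algebraMap R k r) + inr (D r) : TrivSqZeroExt k N).fst = _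
  simp

theorem snd_derHom (D : R → N) (h₁) (h₂) (h₃) (r : R) : (derHom (k := k) D h₁ h₂ h₃ r).snd = D r := by
  show (inl (algebraMap R k r) + inr (D r) : TrivSqZeroExt k N).snd = _
  simp

theorem leibniz' (D : Derivation k R k) (a b : R) :
    D (a * b) = algebraMap R k a • D b + algebraMap R k b • D a := by
  rw [Derivation.leibniz, algebraMap_smul, algebraMap_smul]

/-- The algebra homomorphism into `k[ε]` of a derivation. -/
noncomputable def φD (D : Derivation k R k) : R →ₐ[k] TrivSqZeroExt k k :=
  derHom D (map_add D) (leibniz' D) D.map_algebraMap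

/-- The extension of a derivation. -/
noncomputable def extD (D : Derivation k R k) : Ext x f yY :=
  ⟨evN υ u hu (φD D), evN_over υ hυ u hu _, inc_evN υ f af haf u hu haR _ fun r => fst_derHom _ _ _ _ r⟩

include hM in
theorem extD_injective [Mono u] : Function.Injective (extD υ hυ f af haf u hu haR) := by
  intro D D' h
  have h1 : evN υ u hu (φD D) = evN υ u hu (φD D') := congrArg Ext.hom h
  obtain ⟨a, -, huniq⟩ := hM (Over.mk (sp k)) (evN υ u hu (φD D)) (over_tl υ hυ _)
  have h2 : gN u hu (φD D) = gN u hu (φD D') := (huniq _ rfl).trans (huniq _ h1.symm).symm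
  have h3 := Spec.map_injective ((cancel_mono u).1 (congrArg CommaMorphism.left h2))
  refine Derivation.ext fun r => ?_
  have h4 : φD D r = φD D' r := congr($(h3).hom r)
  simpa [φD, snd_derHom] using congrArg TrivSqZeroExt.snd h4

variable (hfac : ∀ a : Over.mk (sp (k := k) k) ⟶ M, sp0 k ≫ a.left = af.left →
    ∃ φ : R →+* TrivSqZeroExt k k, a.left = Spec.map (CommRingCat.ofHom φ) ≫ u)

include hM hfac in
theorem extD_surjective [Mono u] : Function.Surjective (extD υ hυ f af haf u hu haR) := by
  intro b
  obtain ⟨a, ha, -⟩ := hM (Over.mk (sp k)) b.hom b.over_eq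
  obtain ⟨a₀, -, huniq⟩ := hM (Over.mk (𝟙 (Spec (CommRingCat.of k))))
    (pullback.fst x (Over.mk (𝟙 (Spec (CommRingCat.of k)))).hom ≫ f) (by
      have h := over_tl υ hυ af
      rw [haf] at h
      exact h)
  let a' : Over.mk (𝟙 (Spec (CommRingCat.of k))) ⟶ M := Over.homMk (sp0 k ≫ a.left) (by
    rw [Category.assoc, Over.w a]
    exact sp0_sp k)
  have he := tl_inc (x := x) a a' rfl
  have ha' : sp0 k ≫ a.left = af.left := congrArg CommaMorphism.left
    ((huniq a' (by beta_reduce; rw [he, Category.assoc, ha, Category.assoc, b.inc_eq])).trans (huniq af haf).symm)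
  obtain ⟨φ₀, hφ₀⟩ := hfac a ha'
  have h1 : CommRingCat.ofHom (algebraMap k R) ≫ CommRingCat.ofHom φ₀ =
      CommRingCat.ofHom (algebraMap k (TrivSqZeroExt k k)) := Spec.map_injective (by
    rw [Spec.map_comp, ← hu, ← Category.assoc, ← hφ₀]
    exact Over.w a)
  have h2 : CommRingCat.ofHom φ₀ ≫ CommRingCat.ofHom (fstHom k k k).toRingHom =
      CommRingCat.ofHom (algebraMap R k) := Spec.map_injective ((cancel_mono u).1 (by
    rw [Spec.map_comp, Category.assoc, ← hφ₀, haR]
    exact ha'))
  have hf₀ : ∀ r, (φ₀ r).fst = algebraMap R k r := fun r => congr($(h2).hom r)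
  have hc₀ : ∀ c, φ₀ (algebraMap k R c) = algebraMap k (TrivSqZeroExt k k) c := fun c => congr($(h1).hom c)
  let L : R →ₗ[k] k :=
    { toFun := fun r => (φ₀ r).snd
      map_add' := fun r r' => by simp
      map_smul' := fun c r => by simp [Algebra.smul_def, map_mul, hc₀, algebraMap_eq_inl] }
  refine ⟨Derivation.mk' L fun r r' => ?_, Ext.ext ?_⟩
  · show (φ₀ (r * r')).snd = r • (φ₀ r').snd + r' • (φ₀ r).snd
    rw [map_mul, snd_mul, hf₀, hf₀, algebraMap_smul, op_smul_eq_smul, algebraMap_smul]
  · show tl x (gN u hu _) ≫ υ = b.hom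
    rw [← ha]
    congr 2
    refine Over.OverMorphism.ext ?_
    show Spec.map _ ≫ u = _
    rw [hφ₀]
    congr 3
    refine RingHom.ext fun r => TrivSqZeroExt.ext ?_ ?_
    · exact (fst_derHom _ _ _ _ r).trans (hf₀ r).symm
    · exact snd_derHom _ _ _ _ r

include hυ hM hf haf hu haR hfac in
/-- Extensions of `f` to `X ×_k Spec k[ε]` are tangent vectors of the scheme of morphisms. -/
theorem exists_tangentEquiv [Mono u] :
    ∃ Φ : Derivation k R k → Ders yY f (Coh.structureModule X) ⊤,
      Function.Bijective Φ ∧ (∀ D D', Φ (D + D') = Φ D + Φ D') ∧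
      ∀ (c : k) D, Φ (c • D) = dSmul (cs x ⊤ c) (Φ D) := by
  refine ⟨fun D => (extD υ hυ f af haf u hu haR D).der x hf, (Ext.der_bijective x hf).comp
    ⟨extD_injective υ hυ hM f af haf u hu haR, extD_surjective υ hυ hM f af haf u hu haR hfac⟩, ?_⟩
  have key : ∀ (c₁ c₂ : k) (D₁ D₂ : Derivation k R k),
      (extD υ hυ f af haf u hu haR (c₁ • D₁ + c₂ • D₂)).der x hf =
        dSmul (cs x ⊤ c₁) ((extD υ hυ f af haf u hu haR D₁).der x hf) +
          dSmul (cs x ⊤ c₂) ((extD υ hυ f af haf u hu haR D₂).der x hf) := by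
    intro c₁ c₂ D₁ D₂
    let φ₂ : R →ₐ[k] TrivSqZeroExt k (k × k) := derHom (fun r => (D₁ r, D₂ r))
      (fun a b => by rw [map_add, map_add]; rfl)
      (fun a b => by rw [leibniz', leibniz']; rfl)
      (fun c => by rw [D₁.map_algebraMap, D₂.map_algebraMap]; rfl)
    have h2 : ∀ r, (φ₂ r).fst = algebraMap R k r := fun r => fst_derHom _ _ _ _ r
    have e : ∀ (p : k × k →ₗ[k] k) (D : Derivation k R k), (∀ r, p (D₁ r, D₂ r) = D r) →
        extD υ hυ f af haf u hu haR D =
          Ext.pull x (evN υ u hu φ₂) (evN_over υ hυ u hu φ₂) (inc_evN υ f af haf u hu haR φ₂ h2) p :=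
      fun p D hp => Ext.ext (by
        show evN υ u hu (φD D) = mapT x p ≫ evN υ u hu φ₂
        rw [mapT_evN]
        congr 1
        refine AlgHom.ext fun r => TrivSqZeroExt.ext ?_ ?_
        · rw [AlgHom.comp_apply, fst_map, h2]
          exact fst_derHom _ _ _ _ r
        · rw [AlgHom.comp_apply, snd_map, snd_derHom, hp]
          exact snd_derHom _ _ _ _ r)
    rw [e (c₁ • LinearMap.fst k k k + c₂ • LinearMap.snd k k k) _ (fun r => rfl),
      e (LinearMap.fst k k k) D₁ (fun r => rfl), e (LinearMap.snd k k k) D₂ (fun r => rfl)]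
    exact Ext.der_pull_affine x hf _ _ _ c₁ c₂ _ _
  refine ⟨fun D D' => ?_, fun c D => ?_⟩
  · have h := key 1 1 D D'
    rw [one_smul, one_smul, map_one, dSmul_one, dSmul_one] at h
    exact h
  · have h := key c 0 D D
    rw [zero_smul, add_zero, map_zero] at h
    refine h.trans (add_eq_left.2 (Subtype.ext (funext fun W => AddMonoidHom.ext fun z => ?_)))
    rw [dSmul_apply]
    simp only [sc, map_zero, zero_smul]
    rfl

end Rep

end Groth.Agent.H02CA.HomTan
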