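import Groth.Agent.H06Lift.Basic
import Mathlib

/-!
# The thickening `X ×_k Spec (k ⊕ N)` of a scheme over a field
-/

set_option autoImplicit false
set_option linter.style.haveILetI false
set_option backward.isDefEq.respectTransparency false
universe u

open CategoryTheory CategoryTheory.Limits AlgebraicGeometry TopologicalSpace Opposite TrivSqZeroExt

namespace Groth.Agent.H02CA.HomTan

open Groth.Agent.H06Lift

theorem specMap_appLE_top {R S : CommRingCat.{u}} (φ : R ⟶ S) (e : ⊤ ≤ Spec.map φ ⁻¹ᵁ ⊤) (a : R) :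
    (Spec.map φ).appLE ⊤ ⊤ e ((Scheme.ΓSpecIso R).inv a) = (Scheme.ΓSpecIso S).inv (φ a) := by
  rw [show (Spec.map φ).appLE ⊤ ⊤ e = (Spec.map φ).appTop from
    ((Spec.map φ).app_eq_appLE (U := ⊤)).symm]
  exact congr($(Scheme.ΓSpecIso_inv_naturality φ) a).symm

variable {k : Type u} [Field k] {X : Scheme.{u}} (x : X ⟶ Spec (CommRingCat.of k))
  (N : Type u) [AddCommGroup N] [Module k N] [Module kᵐᵒᵖ N] [IsCentralScalar k N]

/-- `Spec (k ⊕ N) ⟶ Spec k`. -/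
noncomputable abbrev sp : Spec (CommRingCat.of (TrivSqZeroExt k N)) ⟶ Spec (CommRingCat.of k) :=
  Spec.map (CommRingCat.ofHom (algebraMap k (TrivSqZeroExt k N)))

/-- The closed point of `Spec (k ⊕ N)`. -/
noncomputable abbrev sp0 : Spec (CommRingCat.of k) ⟶ Spec (CommRingCat.of (TrivSqZeroExt k N)) :=
  Spec.map (CommRingCat.ofHom (fstHom k k N).toRingHom)

theorem sp0_sp : sp0 (k := k) N ≫ sp N = 𝟙 _ := by
  rw [← Spec.map_comp, ← Spec.map_id]
  exact congrArg Spec.map (CommRingCat.hom_ext (RingHom.ext fun c => (fstHom k k N).commutes c))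

instance : IsClosedImmersion (sp0 (k := k) N) :=
  IsClosedImmersion.spec_of_surjective _ fun c => ⟨inl c, fst_inl N c⟩

instance : Surjective (sp0 (k := k) N) := ⟨fun p => ⟨IsLocalRing.closedPoint k, by
  refine PrimeSpectrum.ext ?_
  show Ideal.comap (fstHom k k N).toRingHom (IsLocalRing.maximalIdeal k) = p.asIdeal
  rw [IsLocalRing.maximalIdeal_eq_bot]
  have hker : RingHom.ker (fstHom k k N).toRingHom ≤ p.asIdeal := fun r hr => by
    refine p.isPrime.mem_of_pow_mem 2 ?_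
    have : r = inr r.snd := TrivSqZeroExt.ext (by simpa using hr) (by simp)
    rw [pow_two, this, inr_mul_inr]
    exact zero_mem _
  haveI : (RingHom.ker (fstHom k k N).toRingHom).IsMaximal :=
    RingHom.ker_isMaximal_of_surjective (fstHom k k N).toRingHom fun c => ⟨inl c, fst_inl N c⟩
  exact this.eq_of_le p.isPrime.ne_top hker⟩⟩

/-- The thickening. -/
noncomputable abbrev Thk : Scheme.{u} := pullback x (sp N)

/-- The projection to `X`. -/
noncomputable abbrev q : Thk x N ⟶ X := pullback.fst x (sp N)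

/-- The projection to `Spec (k ⊕ N)`. -/
noncomputable abbrev pr : Thk x N ⟶ Spec (CommRingCat.of (TrivSqZeroExt k N)) := pullback.snd x (sp N)

/-- The zero section. -/
noncomputable def inc : X ⟶ Thk x N :=
  pullback.lift (𝟙 X) (x ≫ sp0 N) (by rw [Category.id_comp, Category.assoc, sp0_sp, Category.comp_id])

@[reassoc] theorem inc_q : inc x N ≫ q x N = 𝟙 X := pullback.lift_fst _ _ _

@[reassoc] theorem inc_pr : inc x N ≫ pr x N = x ≫ sp0 N := pullback.lift_snd _ _ _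

theorem isPullback_inc : IsPullback (inc x N) x (pr x N) (sp0 N) := by
  refine IsPullback.of_right ?_ (inc_pr x N) (IsPullback.of_hasPullback x (sp N))
  rw [inc_q, sp0_sp]
  exact IsPullback.of_horiz_isIso ⟨by simp⟩

instance : IsClosedImmersion (inc x N) :=
  MorphismProperty.of_isPullback (P := @IsClosedImmersion) (isPullback_inc x N).flip inferInstance

instance : Surjective (inc x N) :=
  MorphismProperty.of_isPullback (P := @Surjective) (isPullback_inc x N).flip inferInstance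

theorem inc_base_q (t : Thk x N) : inc x N (q x N t) = t := by
  obtain ⟨s, rfl⟩ := (inc x N).surjective t
  rw [← Scheme.Hom.comp_apply (inc x N) (q x N), inc_q]
  rfl

theorem q_preimage_inc_preimage (V : (Thk x N).Opens) : q x N ⁻¹ᵁ (inc x N ⁻¹ᵁ V) = V := by
  ext t
  show inc x N (q x N t) ∈ V ↔ t ∈ V
  rw [inc_base_q]

theorem le_q_preimage (V : (Thk x N).Opens) : V ≤ q x N ⁻¹ᵁ (inc x N ⁻¹ᵁ V) :=
  (q_preimage_inc_preimage x N V).ge

theorem q_preimage_le {V : (Thk x N).Opens} {U : X.Opens} (h : U ≤ inc x N ⁻¹ᵁ V) : q x N ⁻¹ᵁ U ≤ V :=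
  ((q x N).preimage_mono h).trans (q_preimage_inc_preimage x N V).le

theorem inc_preimage_q (U : X.Opens) : inc x N ⁻¹ᵁ (q x N ⁻¹ᵁ U) = U := by
  rw [← Scheme.Hom.comp_preimage, inc_q]
  rfl

/-- Scalars on an open of `X`. -/
noncomputable def cs (U : X.Opens) : k →+* Γ(X, U) :=
  (x.appLE ⊤ U le_top).hom.comp (Scheme.ΓSpecIso (CommRingCat.of k)).inv.hom

/-- `k ⊕ N` on an open of the thickening. -/
noncomputable def ps (V : (Thk x N).Opens) : TrivSqZeroExt k N →+* Γ(Thk x N, V) :=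
  ((pr x N).appLE ⊤ V le_top).hom.comp (Scheme.ΓSpecIso (CommRingCat.of (TrivSqZeroExt k N))).inv.hom

theorem rO_cs {U U' : X.Opens} (h : U' ≤ U) (c : k) : rO X h (cs x U c) = cs x U' c :=
  congr($(Scheme.Hom.appLE_map x (le_top : U ≤ x ⁻¹ᵁ ⊤) (homOfLE h).op) _)

theorem rO_ps {V V' : (Thk x N).Opens} (h : V' ≤ V) (r : TrivSqZeroExt k N) :
    rO (Thk x N) h (ps x N V r) = ps x N V' r :=
  congr($(Scheme.Hom.appLE_map (pr x N) (le_top : V ≤ pr x N ⁻¹ᵁ ⊤) (homOfLE h).op) _)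

theorem ps_inl (c : k) (U : X.Opens) :
    ps x N (q x N ⁻¹ᵁ U) (inl c) = (q x N).app U (cs x U c) := by
  have h1 : (Scheme.ΓSpecIso (CommRingCat.of (TrivSqZeroExt k N))).inv (inl c) =
      (sp N).appLE ⊤ ⊤ le_top ((Scheme.ΓSpecIso (CommRingCat.of k)).inv c) :=
    (specMap_appLE_top (CommRingCat.ofHom (algebraMap k (TrivSqZeroExt k N))) le_top c).symm
  show (pr x N).appLE ⊤ _ le_top _ = _
  rw [h1, show (q x N).app U = (q x N).appLE U (q x N ⁻¹ᵁ U) le_rfl from Scheme.Hom.app_eq_appLE _]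
  refine Eq.trans (congr($((pr x N).appLE_comp_appLE (sp N) ⊤ ⊤ (q x N ⁻¹ᵁ U) le_top le_top) _)) ?_
  refine Eq.trans ?_ (congr($((q x N).appLE_comp_appLE x ⊤ U (q x N ⁻¹ᵁ U) le_top le_rfl) _)).symm
  simp only [pullback.condition]

theorem inc_app_ps (V : (Thk x N).Opens) (r : TrivSqZeroExt k N) :
    (inc x N).app V (ps x N V r) = cs x (inc x N ⁻¹ᵁ V) r.fst := by
  have h1 : (sp0 N).appLE ⊤ ⊤ le_top ((Scheme.ΓSpecIso (CommRingCat.of (TrivSqZeroExt k N))).inv r) =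
      (Scheme.ΓSpecIso (CommRingCat.of k)).inv r.fst :=
    specMap_appLE_top (CommRingCat.ofHom (fstHom k k N).toRingHom) le_top r
  show _ = x.appLE ⊤ _ le_top _
  rw [← h1, show (inc x N).app V = (inc x N).appLE V (inc x N ⁻¹ᵁ V) le_rfl from Scheme.Hom.app_eq_appLE _]
  refine Eq.trans (congr($((inc x N).appLE_comp_appLE (pr x N) ⊤ V (inc x N ⁻¹ᵁ V) le_top le_rfl) _)) ?_
  refine Eq.trans ?_ (congr($(x.appLE_comp_appLE (sp0 N) ⊤ ⊤ (inc x N ⁻¹ᵁ V) le_top le_top) _)).symm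
  simp only [inc_pr]

theorem inc_app_q (U : X.Opens) (a : Γ(X, U)) :
    (inc x N).app _ ((q x N).app U a) = rO X (inc_preimage_q x N U).le a := by
  have h := congr($(Scheme.Hom.congr_app (inc_q x N) U) a)
  simp only [Scheme.Hom.comp_app, Scheme.Hom.id_app, CommRingCat.comp_apply] at h
  exact h

theorem isPushout_sections {U : X.Opens} (hU : IsAffineOpen U) :
    IsPushout (x.appLE ⊤ U le_top) ((sp (k := k) N).appLE ⊤ ⊤ le_top)
      ((q x N).appLE U (q x N ⁻¹ᵁ U) le_rfl) ((pr x N).appLE ⊤ (q x N ⁻¹ᵁ U) le_top) := by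
  have hUY : q x N ⁻¹ᵁ U = q x N ⁻¹ᵁ U ⊓ pr x N ⁻¹ᵁ ⊤ := by simp
  exact (isIso_pushoutSection_iff (IsPullback.of_hasPullback x (sp N)) _ _ hUY).mp
    (isIso_pushoutSection_of_isAffineOpen (IsPullback.of_hasPullback x (sp N)) _ _ hUY
      (isAffineOpen_top _) (isAffineOpen_top _) hU)

/-- Sections over the preimage of an affine open are sums of products. -/
theorem closure_generators {U : X.Opens} (hU : IsAffineOpen U) (s : Γ(Thk x N, q x N ⁻¹ᵁ U)) :
    s ∈ AddSubmonoid.closure {s | ∃ a r, (q x N).app U a * ps x N _ r = s} := by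
  letI := (x.appLE ⊤ U le_top).hom.toAlgebra
  letI := ((sp (k := k) N).appLE ⊤ ⊤ le_top).hom.toAlgebra
  letI := ((q x N).appLE U (q x N ⁻¹ᵁ U) le_rfl).hom.toAlgebra
  letI := ((pr x N).appLE ⊤ (q x N ⁻¹ᵁ U) le_top).hom.toAlgebra
  letI : Algebra Γ(Spec (CommRingCat.of k), ⊤) Γ(Thk x N, q x N ⁻¹ᵁ U) :=
    (((q x N).appLE U (q x N ⁻¹ᵁ U) le_rfl).hom.comp (x.appLE ⊤ U le_top).hom).toAlgebra
  haveI : IsScalarTower Γ(Spec (CommRingCat.of k), ⊤) Γ(X, U) Γ(Thk x N, q x N ⁻¹ᵁ U) :=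
    IsScalarTower.of_algebraMap_eq' rfl
  haveI : IsScalarTower Γ(Spec (CommRingCat.of k), ⊤) Γ(Spec (CommRingCat.of (TrivSqZeroExt k N)), ⊤)
      Γ(Thk x N, q x N ⁻¹ᵁ U) :=
    IsScalarTower.of_algebraMap_eq' (congrArg CommRingCat.Hom.hom (isPushout_sections x N hU).w)
  haveI : Algebra.IsPushout Γ(Spec (CommRingCat.of k), ⊤) Γ(X, U)
      Γ(Spec (CommRingCat.of (TrivSqZeroExt k N)), ⊤) Γ(Thk x N, q x N ⁻¹ᵁ U) :=
    CommRingCat.isPushout_iff_isPushout.mp (isPushout_sections x N hU)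
  obtain ⟨t, rfl⟩ := (Algebra.IsPushout.equiv Γ(Spec (CommRingCat.of k), ⊤) Γ(X, U)
      Γ(Spec (CommRingCat.of (TrivSqZeroExt k N)), ⊤) Γ(Thk x N, q x N ⁻¹ᵁ U)).surjective s
  induction t with
  | zero => rw [map_zero]; exact zero_mem _
  | add a b ha hb => rw [map_add]; exact add_mem ha hb
  | tmul a r =>
    obtain ⟨r', rfl⟩ : ∃ r', (Scheme.ΓSpecIso (CommRingCat.of (TrivSqZeroExt k N))).inv r' = r :=
      ⟨_, congr($((Scheme.ΓSpecIso (CommRingCat.of (TrivSqZeroExt k N))).hom_inv_id) r)⟩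
    refine AddSubmonoid.subset_closure ⟨a, r', ?_⟩
    rw [Algebra.IsPushout.equiv_tmul, show (q x N).app U = (q x N).appLE U (q x N ⁻¹ᵁ U) le_rfl from Scheme.Hom.app_eq_appLE _]
    rfl

section Map

variable {N} {N' : Type u} [AddCommGroup N'] [Module k N'] [Module kᵐᵒᵖ N'] [IsCentralScalar k N']

/-- Functoriality in `N`. -/
noncomputable def mapT (ψ : N →ₗ[k] N') : Thk x N' ⟶ Thk x N :=
  pullback.lift (q x N') (pr x N' ≫ Spec.map (CommRingCat.ofHom (TrivSqZeroExt.map ψ).toRingHom)) (by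
    rw [pullback.condition, Category.assoc, ← Spec.map_comp]
    congr 1
    exact congrArg Spec.map (CommRingCat.hom_ext (RingHom.ext fun c => ((TrivSqZeroExt.map ψ).commutes c).symm)))

@[reassoc] theorem mapT_q (ψ : N →ₗ[k] N') : mapT x ψ ≫ q x N = q x N' := pullback.lift_fst _ _ _

@[reassoc] theorem mapT_pr (ψ : N →ₗ[k] N') : mapT x ψ ≫ pr x N =
    pr x N' ≫ Spec.map (CommRingCat.ofHom (TrivSqZeroExt.map ψ).toRingHom) := pullback.lift_snd _ _ _

@[reassoc] theorem inc_mapT (ψ : N →ₗ[k] N') : inc x N' ≫ mapT x ψ = inc x N := by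
  apply pullback.hom_ext
  · rw [Category.assoc, mapT_q, inc_q, inc_q]
  · rw [Category.assoc, mapT_pr, inc_pr_assoc, inc_pr, ← Spec.map_comp]
    congr 1
    exact congrArg Spec.map (CommRingCat.hom_ext (RingHom.ext fun r => fst_map ψ r))

theorem q_preimage_le_mapT (ψ : N →ₗ[k] N') (U : X.Opens) :
    q x N' ⁻¹ᵁ U ≤ mapT x ψ ⁻¹ᵁ (q x N ⁻¹ᵁ U) := by
  rw [← Scheme.Hom.comp_preimage, mapT_q]

theorem mapT_appLE_q (ψ : N →ₗ[k] N') (U : X.Opens) (e) (a : Γ(X, U)) :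
    (mapT x ψ).appLE (q x N ⁻¹ᵁ U) (q x N' ⁻¹ᵁ U) e ((q x N).app U a) = (q x N').app U a := by
  rw [show (q x N).app U = (q x N).appLE U (q x N ⁻¹ᵁ U) le_rfl from Scheme.Hom.app_eq_appLE _,
    show (q x N').app U = (q x N').appLE U (q x N' ⁻¹ᵁ U) le_rfl from Scheme.Hom.app_eq_appLE _]
  refine Eq.trans (congr($((mapT x ψ).appLE_comp_appLE (q x N) U (q x N ⁻¹ᵁ U) (q x N' ⁻¹ᵁ U) le_rfl e) _)) ?_
  simp only [mapT_q]

theorem mapT_appLE_ps (ψ : N →ₗ[k] N') (V : (Thk x N).Opens) (V' : (Thk x N').Opens) (e)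
    (r : TrivSqZeroExt k N) :
    (mapT x ψ).appLE V V' e (ps x N V r) = ps x N' V' (TrivSqZeroExt.map ψ r) := by
  let g := Spec.map (CommRingCat.ofHom (TrivSqZeroExt.map ψ).toRingHom)
  have h1 : g.appLE ⊤ ⊤ le_top ((Scheme.ΓSpecIso (CommRingCat.of (TrivSqZeroExt k N))).inv r) =
      (Scheme.ΓSpecIso (CommRingCat.of (TrivSqZeroExt k N'))).inv (TrivSqZeroExt.map ψ r) :=
    specMap_appLE_top (CommRingCat.ofHom (TrivSqZeroExt.map ψ).toRingHom) le_top r
  show _ = (pr x N').appLE ⊤ V' le_top _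
  rw [← h1]
  refine Eq.trans (congr($((mapT x ψ).appLE_comp_appLE (pr x N) ⊤ V V' le_top e) _)) ?_
  refine Eq.trans ?_ (congr($((pr x N').appLE_comp_appLE g ⊤ ⊤ V' le_top le_top) _)).symm
  simp only [mapT_pr]
  rfl

theorem map_affine (c₁ c₂ : k) (ψ₁ ψ₂ : N →ₗ[k] N') (r : TrivSqZeroExt k N) :
    TrivSqZeroExt.map (c₁ • ψ₁ + c₂ • ψ₂) r = inl c₁ * TrivSqZeroExt.map ψ₁ r +
      inl c₂ * TrivSqZeroExt.map ψ₂ r + inl (1 - c₁ - c₂) * TrivSqZeroExt.map 0 r := by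
  apply TrivSqZeroExt.ext
  · simp; ring
  · simp

/-- The maps induced by an affine combination. -/
theorem mapT_affine (c₁ c₂ : k) (ψ₁ ψ₂ : N →ₗ[k] N') {V : (Thk x N).Opens} {V' : (Thk x N').Opens}
    (e : V' ≤ mapT x (c₁ • ψ₁ + c₂ • ψ₂) ⁻¹ᵁ V) (e₁ : V' ≤ mapT x ψ₁ ⁻¹ᵁ V) (e₂ : V' ≤ mapT x ψ₂ ⁻¹ᵁ V)
    (e₀ : V' ≤ mapT x (0 : N →ₗ[k] N') ⁻¹ᵁ V) (s : Γ(Thk x N, V)) :
    (mapT x (c₁ • ψ₁ + c₂ • ψ₂)).appLE V V' e s =
      ps x N' V' (inl c₁) * (mapT x ψ₁).appLE V V' e₁ s + ps x N' V' (inl c₂) * (mapT x ψ₂).appLE V V' e₂ s +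
        ps x N' V' (inl (1 - c₁ - c₂)) * (mapT x 0).appLE V V' e₀ s := by
  have haff : ∀ (U : X.Opens) (_ : IsAffineOpen U) (t : Γ(Thk x N, q x N ⁻¹ᵁ U)),
      (mapT x (c₁ • ψ₁ + c₂ • ψ₂)).appLE _ _ (q_preimage_le_mapT x _ U) t =
        ps x N' _ (inl c₁) * (mapT x ψ₁).appLE _ _ (q_preimage_le_mapT x _ U) t +
        ps x N' _ (inl c₂) * (mapT x ψ₂).appLE _ _ (q_preimage_le_mapT x _ U) t +
        ps x N' _ (inl (1 - c₁ - c₂)) * (mapT x 0).appLE _ _ (q_preimage_le_mapT x _ U) t := by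
    intro U hU t
    induction closure_generators x N hU t using AddSubmonoid.closure_induction with
    | mem t ht =>
      obtain ⟨a, r, rfl⟩ := ht
      simp only [map_mul, mapT_appLE_q, mapT_appLE_ps, map_affine, map_add]
      ring
    | zero => simp
    | add a b _ _ ha hb => simp only [map_add, ha, hb]; ring
  have hcov : ∀ t ∈ V', ∃ U : X.Opens, IsAffineOpen U ∧ t ∈ q x N' ⁻¹ᵁ U ∧ q x N' ⁻¹ᵁ U ≤ V' ∧
      q x N ⁻¹ᵁ U ≤ V := by
    intro t ht
    have hmem : q x N' t ∈ inc x N' ⁻¹ᵁ V' := by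
      show inc x N' (q x N' t) ∈ V'
      rwa [inc_base_q]
    obtain ⟨U, hU, hmU, hUle⟩ := exists_isAffineOpen_mem_and_subset (X := X) (U := inc x N' ⁻¹ᵁ V') hmem
    refine ⟨U, hU, hmU, q_preimage_le x N' hUle, q_preimage_le x N fun z hz => ?_⟩
    have h1 : inc x N' z ∈ V' := hUle hz
    have h2 := e₀ h1
    show inc x N z ∈ V
    rw [← inc_mapT x (0 : N →ₗ[k] N'), Scheme.Hom.comp_apply]
    exact h2
  choose U hU hmU hle hle' using hcov
  refine eq_of_coverO (fun t : V' => q x N' ⁻¹ᵁ U t t.2) V' (fun t => hle t t.2)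
    (fun t ht => Opens.mem_iSup.2 ⟨⟨t, ht⟩, hmU t ht⟩) fun t => ?_
  have key : ∀ (ψ : N →ₗ[k] N') (eψ : V' ≤ mapT x ψ ⁻¹ᵁ V),
      rO (Thk x N') (hle t t.2) ((mapT x ψ).appLE V V' eψ s) =
        (mapT x ψ).appLE _ _ (q_preimage_le_mapT x ψ (U t t.2)) (rO (Thk x N) (hle' t t.2) s) := by
    intro ψ eψ
    exact (congr($(Scheme.Hom.appLE_map (mapT x ψ) eψ (homOfLE (hle t t.2)).op) s)).trans
      (congr($(Scheme.Hom.map_appLE (mapT x ψ) (q_preimage_le_mapT x ψ (U t t.2)) (homOfLE (hle' t t.2)).op) s)).symm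
  rw [key, haff _ (hU t t.2)]
  simp only [map_add, map_mul, key, rO_ps]

end Map

section Eps

/-- The dual number `ε` on an open of the thickening. -/
noncomputable abbrev eps (V : (Thk x k).Opens) : Γ(Thk x k, V) := ps x k V (inr 1)

theorem inc_app_eps (V : (Thk x k).Opens) : (inc x k).app V (eps x V) = 0 := by
  rw [inc_app_ps, fst_inr, map_zero]

/-- Sections over the preimage of an affine open. -/
theorem exists_decomp {U : X.Opens} (hU : IsAffineOpen U) (s : Γ(Thk x k, q x k ⁻¹ᵁ U)) :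
    ∃ a b, s = (q x k).app U a + eps x _ * (q x k).app U b := by
  induction closure_generators x k hU s using AddSubmonoid.closure_induction with
  | mem s hs =>
    obtain ⟨a, r, rfl⟩ := hs
    refine ⟨a * cs x U r.fst, a * cs x U r.snd, ?_⟩
    have hr : r = inl r.fst + inl r.snd * inr 1 := TrivSqZeroExt.ext (by simp) (by simp)
    conv_lhs => rw [hr, map_add, map_mul, ps_inl, ps_inl]
    rw [map_mul, map_mul]
    ring
  | zero => exact ⟨0, 0, by simp⟩
  | add a b _ _ ha hb =>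
    obtain ⟨a₁, a₂, rfl⟩ := ha
    obtain ⟨b₁, b₂, rfl⟩ := hb
    exact ⟨a₁ + b₁, a₂ + b₂, by rw [map_add, map_add]; ring⟩

theorem eps_q_injective {U : X.Opens} (hU : IsAffineOpen U) {b : Γ(X, U)}
    (h : eps x (q x k ⁻¹ᵁ U) * (q x k).app U b = 0) : b = 0 := by
  let i₁ : Γ(X, U) ⟶ CommRingCat.of (TrivSqZeroExt Γ(X, U) Γ(X, U)) :=
    CommRingCat.ofHom (inlHom Γ(X, U) Γ(X, U))
  let g : TrivSqZeroExt k k →+* TrivSqZeroExt Γ(X, U) Γ(X, U) :=
    { toFun := fun r => inl (cs x U r.fst) + inr (cs x U r.snd)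
      map_one' := by ext <;> simp
      map_mul' := fun r r' => by ext <;> simp [mul_comm]
      map_zero' := by ext <;> simp
      map_add' := fun r r' => by ext <;> simp }
  let i₂ : Γ(Spec (CommRingCat.of (TrivSqZeroExt k k)), ⊤) ⟶ CommRingCat.of (TrivSqZeroExt Γ(X, U) Γ(X, U)) :=
    (Scheme.ΓSpecIso _).hom ≫ CommRingCat.ofHom g
  have hw : x.appLE ⊤ U le_top ≫ i₁ = (sp (k := k) k).appLE ⊤ ⊤ le_top ≫ i₂ := by
    refine CommRingCat.hom_ext (RingHom.ext fun c => ?_)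
    obtain ⟨c', rfl⟩ : ∃ c', (Scheme.ΓSpecIso (CommRingCat.of k)).inv c' = c :=
      ⟨_, congr($((Scheme.ΓSpecIso (CommRingCat.of k)).hom_inv_id) c)⟩
    have h1 : (sp (k := k) k).appLE ⊤ ⊤ le_top ((Scheme.ΓSpecIso (CommRingCat.of k)).inv c') =
        (Scheme.ΓSpecIso (CommRingCat.of (TrivSqZeroExt k k))).inv (inl c') :=
      specMap_appLE_top (CommRingCat.ofHom (algebraMap k (TrivSqZeroExt k k))) le_top c'
    show inl (cs x U c') = g ((Scheme.ΓSpecIso (CommRingCat.of (TrivSqZeroExt k k))).hom ((sp (k := k) k).appLE ⊤ ⊤ le_top _))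
    rw [h1, show (Scheme.ΓSpecIso (CommRingCat.of (TrivSqZeroExt k k))).hom
      ((Scheme.ΓSpecIso (CommRingCat.of (TrivSqZeroExt k k))).inv (inl c')) = inl c' from
      congr($((Scheme.ΓSpecIso (CommRingCat.of (TrivSqZeroExt k k))).inv_hom_id) (inl c'))]
    show _ = inl (cs x U (inl c').fst) + inr (cs x U (inl c').snd)
    simp
  have key := congrArg ((isPushout_sections x k hU).desc i₁ i₂ hw) h
  have e1 : (isPushout_sections x k hU).desc i₁ i₂ hw ((q x k).app U b) = inl b := by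
    rw [show (q x k).app U = (q x k).appLE U (q x k ⁻¹ᵁ U) le_rfl from Scheme.Hom.app_eq_appLE _]
    exact congr($((isPushout_sections x k hU).inl_desc i₁ i₂ hw) b)
  have e2 : (isPushout_sections x k hU).desc i₁ i₂ hw (eps x (q x k ⁻¹ᵁ U)) = inr 1 := by
    refine (congr($((isPushout_sections x k hU).inr_desc i₁ i₂ hw)
      ((Scheme.ΓSpecIso (CommRingCat.of (TrivSqZeroExt k k))).inv (inr 1)))).trans ?_
    show g ((Scheme.ΓSpecIso (CommRingCat.of (TrivSqZeroExt k k))).hom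
      ((Scheme.ΓSpecIso (CommRingCat.of (TrivSqZeroExt k k))).inv (inr 1))) = _
    rw [show (Scheme.ΓSpecIso (CommRingCat.of (TrivSqZeroExt k k))).hom
      ((Scheme.ΓSpecIso (CommRingCat.of (TrivSqZeroExt k k))).inv (inr 1)) = inr 1 from
      congr($((Scheme.ΓSpecIso (CommRingCat.of (TrivSqZeroExt k k))).inv_hom_id) (inr 1))]
    show inl (cs x U (inr (1 : k)).fst) + inr (cs x U (inr (1 : k)).snd) = _
    simp
  rw [map_mul, map_zero, e1, e2] at key
  simpa using congrArg TrivSqZeroExt.snd key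

end Eps

end Groth.Agent.H02CA.HomTan
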